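import Cfsg.Agent.Lib.ThreeTransp.TypeTwentyFour.AutDerived.Triples
import Cfsg.Prelude.Def_KGroupFacts

/-!
# The automorphisms of the derived group of a group of type M(24)

Every automorphism of the derived group is conjugation by exactly one element of the group; so the
outer automorphism group of the derived group has order two.
-/

universe u

set_option autoImplicit false
set_option linter.unusedSectionVars false
set_option linter.style.haveILetI false

namespace CfsgLib.ThreeTransp.TypeTwentyFour.AutDerived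

open CfsgLib.Sporadic FischerTransitivity Indep
open scoped commutatorElement

variable {G : Type u} [Group G] [Finite G] {D : Set G}

local notation "LL" => commutator G

variable (C : Unique.Ctx D)
include C

/-- Three commuting members through a member. -/
theorem exists_triple {a : G} (ha : a ∈ D) :
    ∃ b c : G, b ∈ Nb D a ∧ c ∈ Nb D a ∧ c ∈ Nb D b := by
  obtain ⟨b, hb⟩ := exists_nb C.data.toSetting ha
  obtain ⟨c, hc1, hc2⟩ : (Nb D a ∩ Nb D b).Nonempty :=
    Set.nonempty_of_ncard_ne_zero (by rw [card_common C.data.toSetting ha hb]; norm_num)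
  exact ⟨b, c, hb, hc1, hc2⟩

/-- Conjugation gives a faithful action on the derived group. -/
theorem conjL_injective : Function.Injective (conjL : G →* MulAut ↥(commutator G)) := by
  refine (injective_iff_map_eq_one _).2 fun g hg => ?_
  have hfix : ∀ x ∈ LL, g * x * g⁻¹ = x := fun x hx => by
    have := congrArg (fun φ : MulAut ↥(commutator G) => ((φ ⟨x, hx⟩ : ↥(commutator G)) : G)) hg
    simpa using this
  have hmem : ∀ a ∈ D, Commute g a := by
    intro a ha
    obtain ⟨b, c, hb, hc, hcb⟩ := exists_triple C ha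
    exact mul_inv_eq_iff_eq_mul.1 (fix_three C ha hb hc hcb.2.1.symm
      (hfix _ (even C ha hb.1)) (hfix _ (even C ha hc.1))).1
  have hz : g ∈ Subgroup.center G := by
    refine Subgroup.mem_center_iff.2 fun x => ?_
    have hx : x ∈ Subgroup.closure D := C.hG.2.2 ▸ Subgroup.mem_top x
    have hle : Subgroup.closure D ≤ Subgroup.centralizer {g} := (Subgroup.closure_le _).2 fun a ha =>
      Subgroup.mem_centralizer_singleton_iff.2 (hmem a ha).eq.symm
    exact Subgroup.mem_centralizer_singleton_iff.1 (hle hx)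
  rwa [C.h24.1, Subgroup.mem_bot] at hz

variable (E : FourProd.Env D) (hP : ∀ x ∈ D, PairStr (ND D x))
include E hP

/-- Every automorphism of the derived group is a conjugation. -/
theorem conjL_surjective : Function.Surjective (conjL : G →* MulAut ↥(commutator G)) := by
  intro α
  obtain ⟨a, ha, -⟩ := C.data.good.two
  obtain ⟨b, c, hb, hc, hcb⟩ := exists_triple C ha
  have hbc : b ≠ c := hcb.2.1.symm
  set j : ↥(commutator G) := ⟨a * b, even C ha hb.1⟩ with hj
  have hP2 : IsProd D 2 (a * b) :=
    ⟨[a, b], by simpa using Ne.symm hb.2.1, rfl, by simp [ha, hb.1],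
      by simp [Commute.refl, hb.2.2, hb.2.2.symm], by simp⟩
  obtain ⟨g₀, hg₀⟩ := isConj_iff.1 (E.classes 2 (by norm_num) (by norm_num) _ _
    (image_pair C E ha hb α) hP2)
  set β := conjL g₀ * α with hβ
  have hβj : β j = j := Subtype.ext (by rw [hβ, MulAut.mul_apply, conjL_apply]; exact hg₀)
  obtain ⟨w, -, hw, -⟩ := pair_inner C ha hb hβj
  have conj_on : ∀ (γ : MulAut ↥(commutator G)) (v : G) (K : Subgroup G) (x : ↥(commutator G)),
      OnConj γ K v → (x : G) ∈ K → ((conjL v⁻¹ * γ) x : G) = x := by
    intro γ v K x h hx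
    rw [MulAut.mul_apply, conjL_apply, h x hx]
    group
  set γ := conjL w⁻¹ * β with hγ
  have hγab : OnConj γ (Kp a b) 1 := fun x hx => by
    rw [hγ, conj_on β w _ x hw hx]; group
  have step : ∀ {q : G} {K : Subgroup G} (δ : MulAut ↥(commutator G)),
      OnConj δ K q → OnConj (conjL q⁻¹ * δ) K 1 := fun δ h x hx => by
    rw [conj_on δ _ _ x h hx]; group
  have keep : ∀ {q : G} {K : Subgroup G} (δ : MulAut ↥(commutator G)),
      OnConj δ K 1 → (∀ x ∈ K, Commute x q) → OnConj (conjL q⁻¹ * δ) K 1 := fun {q K} δ h hq x hx => by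
    rw [MulAut.mul_apply, conjL_apply, h x hx, one_mul, inv_one, mul_one,
      (hq x hx).symm.inv_left.eq, mul_inv_cancel_right]
  obtain ⟨u, hu1, hu2⟩ : ∃ u : G, OnConj (conjL u * γ) (Kp a b) 1 ∧
      OnConj (conjL u * γ) (Kp a c) 1 := by
    rcases triple C hP ha hb hc hcb hγab with h | h
    · exact ⟨1, by simpa using hγab, by simpa using h⟩
    · exact ⟨b⁻¹, keep γ hγab fun x hx => (mem_Kp.1 hx).2.2, step γ h⟩
  set δ := conjL u * γ with hδ
  obtain ⟨v, hv1, hv2, hv3⟩ : ∃ v : G, OnConj (conjL v * δ) (Kp a b) 1 ∧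
      OnConj (conjL v * δ) (Kp a c) 1 ∧ OnConj (conjL v * δ) (Kp b c) 1 := by
    rcases triple C hP hb.1 (FischerLines.nb_symm ha hb) hcb hc (γ := δ)
        (by rw [Kp_comm]; exact hu1) with h | h
    · exact ⟨1, by simpa using hu1, by simpa using hu2, by simpa using h⟩
    · exact ⟨a⁻¹, keep δ hu1 fun x hx => (mem_Kp.1 hx).2.1, keep δ hu2 fun x hx => (mem_Kp.1 hx).2.1,
        step δ h⟩
  set η := conjL v * δ with hη
  have hall : ∀ x : ↥(commutator G), η x = x := by
    set S : Subgroup ↥(commutator G) := η.toMonoidHom.eqLocus (MonoidHom.id _) with hS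
    have hsub : ∀ K : Subgroup G, OnConj η K 1 → K ≤ LL → K ≤ S.map (commutator G).subtype :=
      fun K hK hle x hx => ⟨⟨x, hle hx⟩, Subtype.ext (by
        show ((η ⟨x, hle hx⟩ : ↥(commutator G)) : G) = x
        rw [hK ⟨x, hle hx⟩ hx]; group), rfl⟩
    have htop : LL ≤ S.map (commutator G).subtype := by
      refine (generate C ha hb hc hcb).ge.trans ?_
      exact sup_le (sup_le (hsub _ hv1 inf_le_left) (hsub _ hv2 inf_le_left))
        (hsub _ hv3 inf_le_left)
    intro x
    obtain ⟨y, hy, e⟩ := htop x.2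
    obtain rfl : y = x := Subtype.ext e
    exact hy
  refine ⟨(v * (u * (w⁻¹ * g₀)))⁻¹, ?_⟩
  have h1 : η = 1 := MulEquiv.ext hall
  rw [map_inv, inv_eq_iff_mul_eq_one, map_mul, map_mul, map_mul, ← h1, hη, hδ, hγ, hβ]
  group

/-- The automorphism group of the derived group is the group. -/
noncomputable def equivAut : G ≃* MulAut ↥(commutator G) :=
  MulEquiv.ofBijective conjL ⟨conjL_injective C, conjL_surjective C E hP⟩

/-- The outer automorphism group of the derived group has order two. -/
theorem card_out : Nat.card (Cfsg.Out ↥(commutator G)) = 2 := by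
  haveI : Finite (MulAut ↥(commutator G)) := Finite.of_equiv _ (equivAut C E hP).toEquiv
  have hidx : (Cfsg.Inn ↥(commutator G)).index = 2 := by
    obtain ⟨h1, h2⟩ := C.data.layer_facts C.prim
    rw [h1] at h2
    have hmap : (commutator G).map (equivAut C E hP).toMonoidHom = Cfsg.Inn ↥(commutator G) := by
      ext φ
      constructor
      · rintro ⟨g, hg, rfl⟩
        exact ⟨⟨g, hg⟩, MulEquiv.ext fun x => Subtype.ext rfl⟩
      · rintro ⟨g, rfl⟩
        exact ⟨(g : G), g.2, MulEquiv.ext fun x => Subtype.ext rfl⟩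
    rw [← hmap, ← h2]
    exact Subgroup.index_map_of_bijective (equivAut C E hP).bijective _
  rw [← hidx]
  rfl

end CfsgLib.ThreeTransp.TypeTwentyFour.AutDerived
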