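import Cfsg.Agent.Lib.ThreeTransp.TypeTwentyFour.Unique.Map
import Cfsg.Agent.Lib.ThreeTransp.TypeTwentyFour.ThreeCentralizer
import Cfsg.Agent.Lib.ThreeTransp.TypeTwentyFour.FourProd.Apply
import Cfsg.Agent.Lib.ThreeTransp.TypeTwentyFour.Locals.ThirteenSet

/-!
# Automorphisms of the derived group and centralizers of commuting pairs

An automorphism of the derived group fixing the product of a commuting pair is, on the even part of
the centralizer of the pair, conjugation by an element of the derived group.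
-/

universe u

set_option autoImplicit false
set_option linter.unusedSectionVars false
set_option linter.style.haveILetI false

namespace CfsgLib.ThreeTransp.TypeTwentyFour.AutDerived

open CfsgLib.Sporadic FischerTransitivity Indep
open scoped commutatorElement

variable {G : Type u} [Group G] [Finite G] {D : Set G}

local notation "LL" => commutator G

/-- The even part of the centralizer of two elements. -/
abbrev Kp (a b : G) : Subgroup G := commutator G ⊓ Subgroup.centralizer ({a, b} : Set G)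

theorem mem_Kp {a b g : G} : g ∈ Kp a b ↔ g ∈ LL ∧ Commute g a ∧ Commute g b := Unique.mem_pair

theorem Kp_comm (a b : G) : Kp a b = Kp b a := by rw [Kp, Kp, Set.pair_comm]

/-- Conjugation of the derived group. -/
noncomputable abbrev conjL : G →* MulAut ↥(commutator G) := MulAut.conjNormal

theorem conjL_apply (g : G) (x : ↥(commutator G)) : (conjL g x : G) = g * x * g⁻¹ :=
  MulAut.conjNormal_apply g x

/-- An automorphism is a conjugation on a subgroup. -/
def OnConj (α : MulAut ↥(commutator G)) (K : Subgroup G) (w : G) : Prop :=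
  ∀ x : ↥(commutator G), (x : G) ∈ K → (α x : G) = w * x * w⁻¹

theorem commutator_fix {a b g h : G} (hg : (g * a * g⁻¹ = a ∧ g * b * g⁻¹ = b) ∨ (g * a * g⁻¹ = b ∧ g * b * g⁻¹ = a))
    (hh : (h * a * h⁻¹ = a ∧ h * b * h⁻¹ = b) ∨ (h * a * h⁻¹ = b ∧ h * b * h⁻¹ = a)) :
    ⁅g, h⁆ * a * ⁅g, h⁆⁻¹ = a ∧ ⁅g, h⁆ * b * ⁅g, h⁆⁻¹ = b := by
  have key : ∀ k x y : G, k * x * k⁻¹ = y → k⁻¹ * y * k⁻¹⁻¹ = x := by
    rintro k x y rfl; group
  have hc : ∀ x : G, ⁅g, h⁆ * x * ⁅g, h⁆⁻¹ = g * (h * (g⁻¹ * (h⁻¹ * x * h⁻¹⁻¹) * g⁻¹⁻¹) * h⁻¹) * g⁻¹ := fun x => by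
    rw [commutatorElement_def]; group
  rw [hc, hc]
  rcases hg with ⟨g1, g2⟩ | ⟨g1, g2⟩ <;> rcases hh with ⟨h1, h2⟩ | ⟨h1, h2⟩
  all_goals
    have g1' := key _ _ _ g1
    have g2' := key _ _ _ g2
    have h1' := key _ _ _ h1
    have h2' := key _ _ _ h2
    simp only [g1', g2', h1', h2', g1, g2, h1, h2, and_self]

variable (C : Unique.Ctx D)
include C

theorem even {a b : G} (ha : a ∈ D) (hb : b ∈ D) : a * b ∈ LL := C.data.even_of_two C.prim ha hb

theorem mul_mem_Kp {a b : G} (ha : a ∈ D) (hb : b ∈ Nb D a) : a * b ∈ Kp a b :=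
  mem_Kp.2 ⟨even C ha hb.1, (Commute.refl a).mul_left hb.2.2.symm, hb.2.2.mul_left (Commute.refl b)⟩

/-- An automorphism fixing the product of a pair maps the even part of the centralizer to itself. -/
theorem pair_maps {a b : G} (ha : a ∈ D) (hb : b ∈ Nb D a) {α : MulAut ↥(commutator G)}
    (hj : α ⟨a * b, even C ha hb.1⟩ = ⟨a * b, even C ha hb.1⟩) (x : ↥(commutator G))
    (hx : (x : G) ∈ Kp a b) : (α x : G) ∈ Kp a b := by
  have hG := C.hG
  obtain ⟨hq, -, -⟩ := C.data.pair_group C.prim ha hb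
  haveI := hq.1
  set M : Subgroup ↥(commutator G) := (Kp a b).subgroupOf (commutator G) with hM
  set CL : Subgroup ↥(commutator G) := Subgroup.centralizer {⟨a * b, even C ha hb.1⟩} with hCL
  have hperm : ∀ g : ↥(commutator G), g ∈ CL → ((g : G) * a * (g : G)⁻¹ = a ∧ (g : G) * b * (g : G)⁻¹ = b) ∨
      ((g : G) * a * (g : G)⁻¹ = b ∧ (g : G) * b * (g : G)⁻¹ = a) := fun g hg => by
    refine factor_two C.data C.ind ha hb (hG.2.1 g a ha) (nb_conj hG g hb) ?_
    have e : (g : G) * (a * b) = (a * b) * g :=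
      congrArg Subtype.val (Subgroup.mem_centralizer_singleton_iff.1 hg)
    calc (g : G) * a * (g : G)⁻¹ * ((g : G) * b * (g : G)⁻¹) = (g : G) * (a * b) * (g : G)⁻¹ := by group
      _ = a * b := by rw [e, mul_inv_cancel_right]
  have hle : M ≤ CL := fun g hg => by
    obtain ⟨-, h1, h2⟩ := mem_Kp.1 (Subgroup.mem_subgroupOf.1 hg)
    exact Subgroup.mem_centralizer_singleton_iff.2 (Subtype.ext (h1.mul_right h2).eq)
  have hsub : ⁅CL, CL⁆ ≤ M := by
    rw [Subgroup.commutator_le]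
    intro g hg h hh
    obtain ⟨e1, e2⟩ := commutator_fix (hperm g hg) (hperm h hh)
    refine Subgroup.mem_subgroupOf.2 (mem_Kp.2 ⟨(⁅g, h⁆ : ↥(commutator G)).2, ?_, ?_⟩)
    · exact mul_inv_eq_iff_eq_mul.1 e1
    · exact mul_inv_eq_iff_eq_mul.1 e2
  haveI : Group.IsPerfect ↥M :=
    ((Components.isQuasisimple_congr (Subgroup.subgroupOfEquivOfLe
      (inf_le_left : Kp a b ≤ commutator G))).2 hq).1
  have heq : ⁅M, M⁆ = M := by
    have h := congrArg (Subgroup.map M.subtype) (Group.isPerfect_def.1 (inferInstance : Group.IsPerfect ↥M))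
    rw [commutator_def ↥M, Subgroup.map_commutator, ← MonoidHom.range_eq_map, Subgroup.range_subtype] at h
    exact h
  have hαCL : CL.map α.toMonoidHom ≤ CL := by
    rintro _ ⟨g, hg, rfl⟩
    refine Subgroup.mem_centralizer_singleton_iff.2 ?_
    have h1 : g * (⟨a * b, even C ha hb.1⟩ : ↥(commutator G)) = ⟨a * b, even C ha hb.1⟩ * g :=
      Subgroup.mem_centralizer_singleton_iff.1 hg
    have h2 := congrArg α h1
    rw [map_mul, map_mul, hj] at h2
    exact h2
  have hmap : M.map α.toMonoidHom ≤ M := by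
    rw [← heq, Subgroup.map_commutator]
    refine (Subgroup.commutator_mono ?_ ?_).trans (hsub.trans heq.ge) <;>
      exact (Subgroup.map_mono hle).trans hαCL
  exact Subgroup.mem_subgroupOf.1 (hmap ⟨x, Subgroup.mem_subgroupOf.2 hx, rfl⟩)

/-- An automorphism fixing the product of a pair is a conjugation on the even part of the centralizer. -/
theorem pair_inner {a b : G} (ha : a ∈ D) (hb : b ∈ Nb D a) {α : MulAut ↥(commutator G)}
    (hj : α ⟨a * b, even C ha hb.1⟩ = ⟨a * b, even C ha hb.1⟩) :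
    ∃ w ∈ LL, OnConj α (Kp a b) w ∧
      ((w * a * w⁻¹ = a ∧ w * b * w⁻¹ = b) ∨ (w * a * w⁻¹ = b ∧ w * b * w⁻¹ = a)) := by
  have hG := C.hG
  have hj' : α.symm ⟨a * b, even C ha hb.1⟩ = ⟨a * b, even C ha hb.1⟩ :=
    α.injective (by rw [α.apply_symm_apply, hj])
  let β : MulAut ↥(Kp a b) :=
    { toFun := fun x => ⟨α ⟨x, (mem_Kp.1 x.2).1⟩, pair_maps C ha hb hj _ x.2⟩
      invFun := fun x => ⟨α.symm ⟨x, (mem_Kp.1 x.2).1⟩, pair_maps C ha hb hj' _ x.2⟩
      left_inv := fun x => Subtype.ext (congrArg (Subtype.val : ↥(commutator G) → G) (α.symm_apply_apply ⟨x, (mem_Kp.1 x.2).1⟩))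
      right_inv := fun x => Subtype.ext (congrArg (Subtype.val : ↥(commutator G) → G) (α.apply_symm_apply ⟨x, (mem_Kp.1 x.2).1⟩))
      map_mul' := fun x y => Subtype.ext (congrArg (Subtype.val : ↥(commutator G) → G)
        (map_mul α ⟨x, (mem_Kp.1 x.2).1⟩ ⟨y, (mem_Kp.1 y.2).1⟩)) }
  have hβ : ∀ x : ↥(commutator G), ∀ hx : (x : G) ∈ Kp a b, (β ⟨x, hx⟩ : G) = α x := fun _ _ => rfl
  obtain ⟨hq, ⟨f⟩, -⟩ := C.data.pair_group C.prim ha hb
  obtain ⟨s, hs, hsa, hsb⟩ := C.data.exists_swap C.prim ha hb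
  set σ : MulAut ↥(Kp a b) := Unique.conjRes (Kp a b) s (Unique.swap_norm hsa hsb) with hσ
  have hσn : ∀ k, σ ≠ MulAut.conj k := by
    intro k e
    obtain ⟨-, hka, hkb⟩ := mem_Kp.1 k.2
    refine C.data.swap_moves C.prim C.ind (w := (k : G)⁻¹ * s) ha hb ?_ fun x hx => ?_
    · rw [Unique.conj_comp, hsa, inv_inv, hkb.inv_left.eq, mul_assoc, inv_mul_cancel, mul_one]
    · have h : s * x * s⁻¹ = k * x * (k : G)⁻¹ :=
        congrArg Subtype.val (DFunLike.congr_fun e (⟨x, hx⟩ : ↥(Kp a b)))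
      calc x * ((k : G)⁻¹ * s) = (k : G)⁻¹ * (k * x * (k : G)⁻¹) * s := by group
        _ = (k : G)⁻¹ * s * x := by rw [← h]; group
  by_cases hin : ∃ k, β = MulAut.conj k
  · obtain ⟨⟨k, hk⟩, e⟩ := hin
    obtain ⟨hkL, hka, hkb⟩ := mem_Kp.1 hk
    refine ⟨k, hkL, fun x hx => ?_, Or.inl ⟨?_, ?_⟩⟩
    · rw [← hβ x hx, e]; rfl
    · rw [hka.eq, mul_inv_cancel_right]
    · rw [hkb.eq, mul_inv_cancel_right]
  · push Not at hin
    obtain ⟨⟨k, hk⟩, e⟩ := Unique.mul_inner hq f card_mulAut_fi22 hσn hin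
    obtain ⟨hkL, hka, hkb⟩ := mem_Kp.1 hk
    have hka' : k * a * k⁻¹ = a := by rw [hka.eq, mul_inv_cancel_right]
    have hkb' : k * b * k⁻¹ = b := by rw [hkb.eq, mul_inv_cancel_right]
    refine ⟨s⁻¹ * k, mul_mem (inv_mem hs) hkL, fun x hx => ?_, Or.inr ⟨?_, ?_⟩⟩
    · have h : s * (α x : G) * s⁻¹ = k * x * k⁻¹ :=
        congrArg Subtype.val (DFunLike.congr_fun e (⟨x, hx⟩ : ↥(Kp a b)))
      calc (α x : G) = s⁻¹ * (s * (α x : G) * s⁻¹) * s := by group
        _ = s⁻¹ * k * x * (s⁻¹ * k)⁻¹ := by rw [h]; group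
    · rw [Unique.conj_comp, hka', ← hsb]; group
    · rw [Unique.conj_comp, hkb', ← hsa]; group

/-- An element of order thirteen commutes with no product of four. -/
theorem not_commute_thirteen (E : FourProd.Env D) {y j : G} (hy : orderOf y = 13)
    (hP : IsProd D 4 j) : ¬ Commute y j := by
  intro hyj
  haveI : Fact (Nat.Prime 13) := ⟨by norm_num⟩
  set X := Subgroup.zpowers y with hX
  have hXc : Nat.card X = 13 := by rw [Nat.card_zpowers, hy]
  by_cases hg : ∃ g ∈ D, Commute g j ∧ Commute y g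
  · obtain ⟨g, hg, hgj, hyg⟩ := hg
    obtain ⟨e, a, b, c, Q, k1, k2, k3, -⟩ := FourProd.exists_clique E (q := 13) (by norm_num)
      (by norm_num) (y := y) (by rw [← hy, pow_orderOf_eq_one]) hP hyj hg hgj hyg
    obtain ⟨ε, hε⟩ := C.data.exists_eps
    have hf : ∀ w ∈ D, Commute y w → w ∈ Locals.fixedSet D X := fun w hw hc =>
      Locals.mem_fixedSet.2 ⟨hw, fun x hx => by
        obtain ⟨i, rfl⟩ := Subgroup.mem_zpowers_iff.1 hx
        exact hc.zpow_left i⟩
    obtain ⟨-, hnc, -⟩ := Locals.Thirteen.facts C.data C.prim C.h24 hε hXc (hf e Q.he k1)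
    exact hnc a ⟨hf a Q.ha.1 k2, Q.ha⟩ b ⟨hf b Q.hb.1 k3, Q.hb⟩ Q.hba.2.1.symm Q.hba.2.2
  · push Not at hg
    have h504 : Nat.card X ∣ 504 := by
      rw [← FourProd.card_fixed_prod E hP]
      refine OrderSeven.card_dvd_of_moves X (fun z hz s hs => ⟨C.hG.2.1 z s hs.1, ?_⟩) ?_
      · obtain ⟨i, rfl⟩ := Subgroup.mem_zpowers_iff.1 hz
        have h := (Commute.conj_iff (y ^ i)).2 hs.2
        rwa [(hyj.zpow_left i).eq, mul_inv_cancel_right] at h
      · intro z hz s hs hzs
        by_contra hne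
        obtain ⟨i, hi⟩ := mem_zpowers_of_prime_card (G := X) (p := 13) hXc (g := ⟨z, hz⟩)
          (g' := ⟨y, Subgroup.mem_zpowers y⟩) (fun e => hne (congrArg Subtype.val e))
        have h3 : z ^ i = y := congrArg Subtype.val hi
        exact hg s hs.1 hs.2 (h3 ▸ hzs.zpow_left i)
    rw [hXc] at h504
    norm_num at h504

/-- Every automorphism carries the product of a pair to the product of a pair. -/
theorem image_pair (E : FourProd.Env D) {a b : G} (ha : a ∈ D) (hb : b ∈ Nb D a)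
    (α : MulAut ↥(commutator G)) : IsProd D 2 (α ⟨a * b, even C ha hb.1⟩ : G) := by
  haveI : Fact (Nat.Prime 13) := ⟨by norm_num⟩
  set j : ↥(commutator G) := ⟨a * b, even C ha hb.1⟩ with hj
  have hne : j ≠ 1 := fun h => hb.2.1
    ((eq_inv_of_mul_eq_one_right (congrArg Subtype.val h : a * b = 1)).trans (inv_eq C.hG ha))
  have hj2 : j * j = 1 := Subtype.ext (by
    show a * b * (a * b) = 1
    rw [show a * b * (a * b) = a * (b * a) * b by group, ← hb.2.2.eq, ← mul_assoc, sq C.hG ha, one_mul,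
      sq C.hG hb.1])
  have h2 : orderOf (α j : G) = 2 := by
    rw [← Subgroup.coe_subtype, orderOf_injective _ (commutator G).subtype_injective, MulEquiv.orderOf_eq]
    exact orderOf_eq_prime (by rw [pow_two, hj2]) hne
  obtain ⟨m, hm1, hm4, hP⟩ := E.inv _ h2
  obtain ⟨ε, hε⟩ := C.data.exists_eps
  have heven : Even m := by
    obtain ⟨l, -, rfl, hD, -, hp⟩ := id hP
    have h1 : ε (α j : G) = 1 := by
      rw [← MonoidHom.mem_ker, C.data.ker_eq C.prim hε]; exact (α j).2
    rw [← hp, map_list_prod, List.prod_eq_pow_card _ (-1), List.length_map] at h1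
    · rcases Nat.even_or_odd l.length with h | h
      · exact h
      · rw [h.neg_one_pow] at h1; exact absurd h1 (by decide)
    · intro x hx
      obtain ⟨z, hz, rfl⟩ := List.mem_map.1 hx
      exact hε z (hD z hz)
  obtain rfl | rfl : m = 2 ∨ m = 4 := by
    obtain ⟨r, rfl⟩ := heven; omega
  · exact hP
  exfalso
  obtain ⟨hq, ⟨f⟩, -⟩ := C.data.pair_group C.prim ha hb
  have h13 : 13 ∣ Nat.card ↥(Kp a b) := by
    refine dvd_trans ?_ (Subgroup.card_quotient_dvd_card (Subgroup.center ↥(Kp a b)))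
    rw [Nat.card_congr f.toEquiv, CosetCert.FiP.card_eq.1]
    norm_num
  obtain ⟨y, hy⟩ := exists_prime_orderOf_dvd_card' 13 h13
  set y' : ↥(commutator G) := ⟨(y : G), (mem_Kp.1 y.2).1⟩ with hy'
  have hyo : orderOf (α y' : G) = 13 := by
    rw [← Subgroup.coe_subtype, orderOf_injective _ (commutator G).subtype_injective, MulEquiv.orderOf_eq,
      ← orderOf_injective _ (commutator G).subtype_injective, Subgroup.coe_subtype, hy']
    exact (orderOf_injective _ (Kp a b).subtype_injective y).trans hy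
  have hc : y' * j = j * y' :=
    Subtype.ext ((mem_Kp.1 y.2).2.1.mul_right (mem_Kp.1 y.2).2.2).eq
  refine not_commute_thirteen C E hyo hP ?_
  have := congrArg (fun z => ((α z : ↥(commutator G)) : G)) hc
  simpa [map_mul, Commute, SemiconjBy] using this

end CfsgLib.ThreeTransp.TypeTwentyFour.AutDerived
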