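import Cfsg.Agent.Lib.ThreeTransp.TypeTwentyFour.AutDerived.Main
import Cfsg.Agent.Lib.ThreeTransp.TypeTwentyFour.Rows
import Cfsg.Agent.Lib.ThreeTransp.TypeTwentyFour.Fixed
import Cfsg.Agent.Lib.ThreeTransp.TypeTwentyFour.Classes
import Cfsg.Agent.Lib.ThreeTransp.TypeTwentyFour.ClassesModel
import Cfsg.Agent.Lib.Sporadic.FiTransfer.Transfer
import Cfsg.Agent.Lib.Sporadic.FiTransfer.Involutions.Statement
import Cfsg.Agent.Lib.Sporadic.FiTransfer23.Main
import Cfsg.Agent.Lib.Sporadic.FiTransfer23.PairCentralizer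

/-!
# The outer automorphism group of the derived group, from the type alone
-/

universe u

set_option autoImplicit false
set_option linter.unusedSectionVars false

namespace CfsgLib.ThreeTransp.TypeTwentyFour.AutDerived

open CfsgLib.Sporadic FischerTransitivity Indep

variable {G : Type u} [Group G] [Finite G] {D : Set G}

/-- Every automorphism of the derived group is one conjugation; the outer group has order two. -/
theorem out_of_type (hG : Cfsg.IsThreeTranspositionGroup D)
    (hprim : Cfsg.IsPrimitiveUnderConj D) (h24 : Cfsg.IsOfTypeM24 G D) :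
    Nonempty (G ≃* MulAut ↥(commutator G)) ∧ Nat.card (Cfsg.Out ↥(commutator G)) = 2 := by
  have hM22 : FiTransfer23.Transfer.M22Transfer.{u} :=
    fun G _ _ D h1 h2 h3 => FiTransfer.modelIso h1 h2 h3
  have T := data_of_transfer hM22 hG hprim h24
  obtain ⟨-, hI, -⟩ := setup hG hprim h24
  have hcl := T.involution_classes hI classesTwentyThree
    (fun x hx => T.fixes_member hG hprim h24 hM22
      (fun H _ _ E h φ hφ => FiTransfer.Involutions.fixes_member h φ hφ) hx)
  have C : Unique.Ctx D := Unique.ctx_of_model hG hprim h24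
    fun _ _ h1 h2 h3 => FiTransfer23.modelIso h1 h2 h3
  have E : FourProd.Env D :=
    ⟨C, FourProd.counts24 hM22 hG hprim h24 T, hcl.1, fun m h1 h4 => (hcl.2.1 m h1 h4).2,
      classesTwentyThree⟩
  have hP : ∀ x ∈ D, PairStr (ND D x) := fun x hx p hp q hq => by
    obtain ⟨a1, a2, a3⟩ :=
      FiTransfer23.pair_stab (T.model x hx) p q hp hq.1 hq.2.1.symm hq.2.2 _ rfl
    exact ⟨a2, a1, FieldFour, inferInstance, inferInstance, by decide, a3⟩
  exact ⟨⟨equivAut C E hP⟩, card_out C E hP⟩

end CfsgLib.ThreeTransp.TypeTwentyFour.AutDerived
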