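import Cfsg.Agent.Lib.ThreeTransp.TypeTwentyFour.AutDerived.Pairs

/-!
# Three commuting members of a group of type M(24)

An automorphism fixing the even part of the centralizer of one pair of a commuting triple is, on
each of the other two, trivial or conjugation by a member; the three even parts generate the
derived group.
-/

universe u

set_option autoImplicit false
set_option linter.unusedSectionVars false
set_option linter.style.haveILetI false

namespace CfsgLib.ThreeTransp.TypeTwentyFour.AutDerived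

open CfsgLib.Sporadic FischerTransitivity Indep
open scoped commutatorElement

variable {G : Type u} [Group G] [Finite G] {D : Set G}

local notation "LL" => commutator G

/-- Membership of the derived group is preserved by conjugation. -/
theorem conj_mem_LL {x : G} (hx : x ∈ LL) (g : G) : g * x * g⁻¹ ∈ LL :=
  (inferInstance : (commutator G).Normal).conj_mem x hx g

/-- A member commuting with both normalises the even part of the centralizer. -/
theorem conj_Kp {s p q x : G} (hp : Commute s p) (hq : Commute s q) (hx : x ∈ Kp p q) :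
    s * x * s⁻¹ ∈ Kp p q := by
  obtain ⟨h1, h2, h3⟩ := mem_Kp.1 hx
  exact mem_Kp.2 ⟨conj_mem_LL h1 s, (hp.mul_left h2).mul_left hp.inv_left,
    (hq.mul_left h3).mul_left hq.inv_left⟩

variable (C : Unique.Ctx D)
include C

/-- An element fixing two products of a commuting triple fixes the three members. -/
theorem fix_three {a b c g : G} (ha : a ∈ D) (hb : b ∈ Nb D a) (hc : c ∈ Nb D a) (hbc : b ≠ c)
    (h1 : g * (a * b) * g⁻¹ = a * b) (h2 : g * (a * c) * g⁻¹ = a * c) :
    g * a * g⁻¹ = a ∧ g * b * g⁻¹ = b ∧ g * c * g⁻¹ = c := by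
  have hG := C.hG
  have key : ∀ {y : G}, y ∈ Nb D a → g * (a * y) * g⁻¹ = a * y →
      (g * a * g⁻¹ = a ∧ g * y * g⁻¹ = y) ∨ (g * a * g⁻¹ = y ∧ g * y * g⁻¹ = a) := fun {y} hy h => by
    refine factor_two C.data C.ind ha hy (hG.2.1 g a ha) (nb_conj hG g hy) ?_
    rw [← h]; group
  rcases key hb h1 with ⟨e1, e2⟩ | ⟨e1, e2⟩ <;> rcases key hc h2 with ⟨e3, e4⟩ | ⟨e3, e4⟩
  · exact ⟨e1, e2, e4⟩
  · exact absurd (e1.symm.trans e3) hc.2.1.symm
  · exact absurd (e1.symm.trans e3) hb.2.1
  · exact absurd (e1.symm.trans e3) hbc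

variable (hP : ∀ x ∈ D, PairStr (ND D x))
include hP

/-- An automorphism trivial on one pair of a commuting triple is trivial or a conjugation on the
next. -/
theorem triple {a b c : G} (ha : a ∈ D) (hb : b ∈ Nb D a) (hc : c ∈ Nb D a) (hcb : c ∈ Nb D b)
    {γ : MulAut ↥(commutator G)} (hγ : OnConj γ (Kp a b) 1) :
    OnConj γ (Kp a c) 1 ∨ OnConj γ (Kp a c) b := by
  have hG := C.hG
  have hbc : b ≠ c := hcb.2.1.symm
  have cbc : Commute b c := hcb.2.2
  have hbsq : b * b = 1 := sq hG hb.1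
  have hab' : a * b ∈ Kp a c :=
    mem_Kp.2 ⟨even C ha hb.1, (Commute.refl a).mul_left hb.2.2.symm, hc.2.2.mul_left cbc⟩
  have hac' : a * c ∈ Kp a b :=
    mem_Kp.2 ⟨even C ha hc.1, (Commute.refl a).mul_left hc.2.2.symm, hb.2.2.mul_left cbc.symm⟩
  have hj : γ ⟨a * c, even C ha hc.1⟩ = ⟨a * c, even C ha hc.1⟩ :=
    Subtype.ext (by have h := hγ ⟨a * c, even C ha hc.1⟩ hac'; rw [h]; group)
  obtain ⟨w, hw, hwK, -⟩ := pair_inner C ha hc hj
  have e1 : w * (a * b) * w⁻¹ = a * b := by
    have hab0 : a * b ∈ Kp a b := mul_mem_Kp C ha hb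
    have h1 := hwK ⟨a * b, even C ha hb.1⟩ hab'
    have h2 := hγ ⟨a * b, even C ha hb.1⟩ hab0
    rw [← h1, h2]; group
  have e2 : w * (a * c) * w⁻¹ = a * c := by
    have h1 := hwK ⟨a * c, even C ha hc.1⟩ (mul_mem_Kp C ha hc)
    rw [← h1, hj]
  obtain ⟨wa, wb, wc⟩ := fix_three C ha hb hc hbc e1 e2
  set E := Subgroup.closure ({a * b, a * c} : Set G) with hE
  obtain ⟨-, hcen, hKE, -, -⟩ := C.data.three_centralizer C.prim C.ind hP ha hb.1 hc.1 hb.2.1.symm
    hc.2.1.symm hbc hb.2.2 hc.2.2 cbc E _ _ hE rfl rfl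
  set K := (Cfsg.generalizedFittingSubgroup
    ↥(commutator G ⊓ Subgroup.centralizer ({a * b * c} : Set G))).map
      (commutator G ⊓ Subgroup.centralizer ({a * b * c} : Set G)).subtype
  have hwa : Commute w a := mul_inv_eq_iff_eq_mul.1 wa
  have hwb : Commute w b := mul_inv_eq_iff_eq_mul.1 wb
  have hwc : Commute w c := mul_inv_eq_iff_eq_mul.1 wc
  have memK : ∀ g, g ∈ K ↔ g ∈ LL ∧ Commute g a ∧ Commute g b ∧ Commute g c := by
    intro g
    rw [hKE, hE, Subgroup.mem_inf, Subgroup.centralizer_closure]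
    refine and_congr_right fun _ => ⟨fun h => ?_, fun h => ?_⟩
    · have hm := Subgroup.mem_centralizer_iff.1 h
      have h1 : g * (a * b) * g⁻¹ = a * b :=
        mul_inv_eq_iff_eq_mul.2 (hm (a * b) (Or.inl rfl)).symm
      have h2 : g * (a * c) * g⁻¹ = a * c :=
        mul_inv_eq_iff_eq_mul.2 (hm (a * c) (Or.inr rfl)).symm
      obtain ⟨f1, f2, f3⟩ := fix_three C ha hb hc hbc h1 h2
      exact ⟨mul_inv_eq_iff_eq_mul.1 f1, mul_inv_eq_iff_eq_mul.1 f2, mul_inv_eq_iff_eq_mul.1 f3⟩
    · refine Subgroup.mem_centralizer_iff.2 ?_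
      rintro y (rfl | rfl)
      · exact (h.1.mul_right h.2.1).eq.symm
      · exact (h.1.mul_right h.2.2).eq.symm
  have hwmem : w ∈ K := (memK w).2 ⟨hw, hwa, hwb, hwc⟩
  have hwE : w ∈ E := by
    rw [← hcen]
    refine ⟨⟨w, hwmem⟩, Subgroup.mem_center_iff.2 fun k => Subtype.ext ?_, rfl⟩
    obtain ⟨kL, ka, kb, kc⟩ := (memK k).1 k.2
    have h1 := hγ ⟨k, kL⟩ (mem_Kp.2 ⟨kL, ka, kb⟩)
    have h2 := hwK ⟨k, kL⟩ (mem_Kp.2 ⟨kL, ka, kc⟩)
    have h3 : w * (k : G) * w⁻¹ = k := by rw [← h2, h1]; group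
    exact (mul_inv_eq_iff_eq_mul.1 h3).symm
  have hbK : ∀ {x : G}, x ∈ Kp a c → b * x * b⁻¹ ∈ Kp a c := fun {x} hx =>
    conj_Kp hb.2.2.symm cbc hx
  have hbb : ∀ x : G, b * (b * x * b⁻¹) * b⁻¹ = x := fun x => by
    rw [inv_eq hG hb.1]
    calc b * (b * x * b) * b = (b * b) * x * (b * b) := by group
      _ = x := by rw [hbsq, one_mul, mul_one]
  have hQ : (∀ x ∈ Kp a c, w * x * w⁻¹ = x) ∨ (∀ x ∈ Kp a c, w * x * w⁻¹ = b * x * b⁻¹) := by
    clear hwK e1 e2 wa wb wc hwa hwb hwc hwmem hw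
    rw [hE] at hwE
    induction hwE using Subgroup.closure_induction with
    | mem y hy =>
      rcases hy with rfl | rfl
      · refine Or.inr fun x hx => ?_
        have h := (mem_Kp.1 (hbK hx)).2.1
        calc a * b * x * (a * b)⁻¹ = a * (b * x * b⁻¹) * a⁻¹ := by group
          _ = b * x * b⁻¹ := by rw [← h.eq, mul_inv_cancel_right]
      · refine Or.inl fun x hx => ?_
        obtain ⟨-, h1, h2⟩ := mem_Kp.1 hx
        rw [← (h1.mul_right h2).eq, mul_inv_cancel_right]
    | one => exact Or.inl fun x _ => by group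
    | mul p q hp hq ih1 ih2 =>
      have hc' : ∀ x, p * q * x * (p * q)⁻¹ = p * (q * x * q⁻¹) * p⁻¹ := fun x => by group
      rcases ih1 with h | h <;> rcases ih2 with h' | h'
      · exact Or.inl fun x hx => by rw [hc', h' x hx, h x hx]
      · exact Or.inr fun x hx => by rw [hc', h' x hx, h _ (hbK hx)]
      · exact Or.inr fun x hx => by rw [hc', h' x hx, h x hx]
      · exact Or.inl fun x hx => by rw [hc', h' x hx, h _ (hbK hx), hbb]
    | inv p hp ih =>
      rcases ih with h | h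
      · exact Or.inl fun x hx => by
          conv_lhs => rw [← h x hx]
          group
      · refine Or.inr fun x hx => ?_
        have h1 := h _ (hbK hx)
        rw [hbb] at h1
        conv_lhs => rw [← h1]
        group
  rcases hQ with h | h
  · left
    intro x hx
    rw [hwK x hx, h _ hx]; group
  · right
    intro x hx
    rw [hwK x hx, h _ hx]

omit hP

/-- The even parts of the centralizers of the pairs of a commuting triple generate the derived
group. -/
theorem generate {a b c : G} (ha : a ∈ D) (hb : b ∈ Nb D a) (hc : c ∈ Nb D a) (hcb : c ∈ Nb D b) :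
    Kp a b ⊔ Kp a c ⊔ Kp b c = commutator G := by
  have hG := C.hG
  obtain ⟨ε, hε⟩ := C.data.exists_eps
  set H := Kp a b ⊔ Kp a c ⊔ Kp b c with hH
  set R := H ⊔ Subgroup.closure ({a, b, c} : Set G) with hR
  have hm : ∀ {s : G}, s ∈ ({a, b, c} : Set G) → s ∈ R := fun h =>
    le_sup_right (α := Subgroup G) (Subgroup.subset_closure h)
  have haR : a ∈ R := hm (by simp)
  have hcen : ∀ {p q g : G}, p ∈ D → p ∈ R → Kp p q ≤ H → Commute p q → Commute g p →
      Commute g q → g ∈ R := by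
    intro p q g hpD hpR hle hpq hgp hgq
    rcases Int.units_eq_one_or (ε g) with e | e
    · exact le_sup_left (α := Subgroup G) (hle (mem_Kp.2 ⟨by
        rw [← C.data.ker_eq C.prim hε]; exact e, hgp, hgq⟩))
    · have h1 : g * p ∈ Kp p q := mem_Kp.2 ⟨by
        rw [← C.data.ker_eq C.prim hε, MonoidHom.mem_ker, map_mul, e, hε p hpD]; decide,
        hgp.mul_left (Commute.refl p), hgq.mul_left hpq⟩
      rw [show g = g * p * p⁻¹ by group]
      exact mul_mem (le_sup_left (α := Subgroup G) (hle h1)) (inv_mem hpR)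
  have hab : Kp a b ≤ H := le_sup_left.trans le_sup_left
  have hac : Kp a c ≤ H := le_sup_right.trans le_sup_left
  have hbc' : Kp b c ≤ H := le_sup_right
  -- a third member is moved by the centralizer of the other two
  have hmove : ∀ {p q r : G}, p ∈ D → q ∈ Nb D p → r ∈ Nb D p → r ∈ Nb D q →
      ∃ k ∈ Kp p q, ¬ Commute k r := by
    intro p q r hp hq hr hrq
    by_contra hno
    push Not at hno
    have h1 : p * r ∈ Kp p q :=
      mem_Kp.2 ⟨even C hp hr.1, (Commute.refl p).mul_left hr.2.2.symm, hq.2.2.mul_left hrq.2.2.symm⟩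
    rcases (C.data.pair_group C.prim hp hq).2.2 _ h1 fun k hk =>
        ((mem_Kp.1 hk).2.1.mul_right (hno k hk)).eq with e | e
    · exact hr.2.1 ((eq_inv_of_mul_eq_one_right e).trans (inv_eq hG hp))
    · exact hrq.2.1 (mul_left_cancel e)
  obtain ⟨k, hk, hkb⟩ := hmove ha hc hb (FischerLines.nb_symm hb.1 hcb)
  obtain ⟨-, hka, hkc⟩ := mem_Kp.1 hk
  obtain ⟨y, hya, hyc, hyb⟩ : ∃ y, y ∈ Nb D a ∧ y ∈ Nb D c ∧ ¬ Commute b y := by
    by_contra hno
    push Not at hno
    refine hkb ?_
    have hle : Subgroup.closure (insert a (Nb D a ∩ Nb D c)) ≤ Subgroup.centralizer {b} := by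
      refine (Subgroup.closure_le _).2 fun z hz => ?_
      rw [SetLike.mem_coe, Subgroup.mem_centralizer_singleton_iff]
      rcases hz with rfl | hz
      · exact hb.2.2.eq
      · exact (hno z hz.1 hz.2).symm.eq
    exact Subgroup.mem_centralizer_singleton_iff.1 (hle (Unique.pair_gen C ha hc hka hkc))
  have hNb : ∀ u ∈ Nb D a, u ∈ R := by
    intro u hu
    by_cases hbu : Commute b u
    · exact hcen ha haR hab hb.2.2 hu.2.2.symm hbu.symm
    · obtain ⟨g, g1, g2, g3⟩ := C.pairs_trans ha (p := (b, y)) (q := (b, u)) ⟨hb, hya, hyb⟩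
        ⟨hb, hu, hbu⟩
      have hgR : g ∈ R := hcen ha haR hab hb.2.2 (mul_inv_eq_iff_eq_mul.1 g1)
        (mul_inv_eq_iff_eq_mul.1 g2)
      have hyR : y ∈ R := hcen ha haR hac hc.2.2 hya.2.2.symm hyc.2.2.symm
      rw [show u = g * y * g⁻¹ from g3.symm]
      exact mul_mem (mul_mem hgR hyR) (inv_mem hgR)
  have hCa : ∀ g, Commute g a → g ∈ R := fun g hg =>
    (Subgroup.closure_le R).2 hNb ((Unique.commute_iff_nh C.data.toSetting ha).2 hg)
  obtain ⟨r, hr, hra⟩ := hmove hb.1 hcb (FischerLines.nb_symm ha hb) (FischerLines.nb_symm ha hc)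
  have hRtop : R = ⊤ := by
    set B := {z : G | ∃ g ∈ R, g * a * g⁻¹ = z} with hB
    have hBD : B ⊆ D := by rintro _ ⟨g, -, rfl⟩; exact hG.2.1 g a ha
    have hblock : ∀ g : G, (fun x => g * x * g⁻¹) '' B = B ∨
        Disjoint ((fun x => g * x * g⁻¹) '' B) B := by
      intro g
      by_cases hg : g ∈ R
      · left
        ext z
        constructor
        · rintro ⟨_, ⟨h, hh, rfl⟩, rfl⟩
          exact ⟨g * h, mul_mem hg hh, by group⟩
        · rintro ⟨h, hh, rfl⟩
          exact ⟨_, ⟨g⁻¹ * h, mul_mem (inv_mem hg) hh, rfl⟩, by group⟩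
      · right
        rw [Set.disjoint_left]
        rintro _ ⟨_, ⟨h, hh, rfl⟩, rfl⟩ ⟨h', hh', e⟩
        refine hg ?_
        have hc1 : Commute (h'⁻¹ * g * h) a := by
          refine mul_inv_eq_iff_eq_mul.1 ?_
          calc h'⁻¹ * g * h * a * (h'⁻¹ * g * h)⁻¹ = h'⁻¹ * (g * (h * a * h⁻¹) * g⁻¹) * h' := by group
            _ = h'⁻¹ * (h' * a * h'⁻¹) * h' := by rw [e]
            _ = a := by group
        rw [show g = h' * (h'⁻¹ * g * h) * h⁻¹ by group]
        exact mul_mem (mul_mem hh' (hCa _ hc1)) (inv_mem hh)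
    rcases C.prim.2.2 B hBD hblock with hs | hs
    · exfalso
      have hrR : r ∈ R := le_sup_left (α := Subgroup G) (hbc' hr)
      have e := hs (x := r * a * r⁻¹) ⟨r, hrR, rfl⟩ (y := a) ⟨1, one_mem _, by group⟩
      exact hra (mul_inv_eq_iff_eq_mul.1 e)
    · refine top_le_iff.1 ?_
      rw [← hG.2.2]
      refine (Subgroup.closure_le R).2 fun d hd => ?_
      obtain ⟨g, hg, rfl⟩ : d ∈ B := hs ▸ hd
      exact mul_mem (mul_mem hg haR) (inv_mem hg)
  -- the subgroup is normal
  have hnorm : ∀ s ∈ ({a, b, c} : Set G), ∀ x ∈ H, s * x * s⁻¹ ∈ H := by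
    intro s hs x hx
    have hcom : Commute s a ∧ Commute s b ∧ Commute s c := by
      rcases hs with rfl | rfl | rfl
      exacts [⟨Commute.refl _, hb.2.2, hc.2.2⟩, ⟨hb.2.2.symm, Commute.refl _, hcb.2.2⟩,
        ⟨hc.2.2.symm, hcb.2.2.symm, Commute.refl _⟩]
    have hle : H ≤ H.comap (MulAut.conj s).toMonoidHom :=
      sup_le (sup_le (fun z hz => hab (conj_Kp hcom.1 hcom.2.1 hz))
        fun z hz => hac (conj_Kp hcom.1 hcom.2.2 hz)) fun z hz => hbc' (conj_Kp hcom.2.1 hcom.2.2 hz)
    exact hle hx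
  haveI hn : H.Normal := by
    rw [← Subgroup.normalizer_eq_top_iff, ← top_le_iff, ← hRtop]
    refine sup_le Subgroup.le_normalizer ((Subgroup.closure_le _).2 fun s hs => ?_)
    have hsD : s ∈ D := by
      rcases hs with rfl | rfl | rfl
      exacts [ha, hb.1, hc.1]
    refine Subgroup.mem_normalizer_iff.2 fun x => ⟨hnorm s hs x, fun h => ?_⟩
    have h2 := hnorm s hs _ h
    rwa [inv_eq hG hsD, show s * (s * x * s) * s = (s * s) * x * (s * s) by group, sq hG hsD,
      one_mul, mul_one] at h2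
  refine le_antisymm (sup_le (sup_le inf_le_left inf_le_left) inf_le_left) ?_
  set π := QuotientGroup.mk' H with hπ
  set S := π '' ({a, b, c} : Set G) with hS
  have hSS : S ⊆ (Subgroup.centralizer S : Set (G ⧸ H)) := by
    rintro _ ⟨p, hp, rfl⟩
    refine Subgroup.mem_centralizer_iff.2 ?_
    rintro _ ⟨q, hq, rfl⟩
    have hc' : Commute q p := by
      rcases hp with rfl | rfl | rfl <;> rcases hq with rfl | rfl | rfl
      exacts [Commute.refl _, hb.2.2.symm, hc.2.2.symm, hb.2.2, Commute.refl _, hcb.2.2.symm,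
        hc.2.2, hcb.2.2, Commute.refl _]
    exact (hc'.map π).eq
  have h1 : Subgroup.closure S ≤ Subgroup.centralizer (Subgroup.closure S : Set (G ⧸ H)) := by
    rw [Subgroup.centralizer_closure]
    exact (Subgroup.closure_le _).2 hSS
  have hall : ∀ g : G, π g ∈ Subgroup.closure S := by
    have hle : R ≤ (Subgroup.closure S).comap π :=
      sup_le (fun x hx => by
        have e : π x = 1 := (QuotientGroup.eq_one_iff x).2 hx
        rw [Subgroup.mem_comap, e]; exact one_mem _)
        ((Subgroup.closure_le _).2 fun x hx => Subgroup.subset_closure ⟨x, hx, rfl⟩)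
    exact fun g => hle (hRtop ▸ Subgroup.mem_top g)
  rw [commutator_def, Subgroup.commutator_le]
  intro g _ h _
  refine (QuotientGroup.eq_one_iff _).1 ?_
  show π ⁅g, h⁆ = 1
  rw [map_commutatorElement, commutatorElement_eq_one_iff_mul_comm]
  exact Subgroup.mem_centralizer_iff.1 (h1 (hall h)) _ (hall g)

end CfsgLib.ThreeTransp.TypeTwentyFour.AutDerived
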